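import Mathlib

/-!
# An inertia invariant separating the conjugates

For a finite group `G` acting on a ring `B` and a maximal ideal `m`, there is an element fixed by the
inertia group of `m` which is moved modulo `m` by every other element of `G`.
-/

set_option autoImplicit false
universe u v w

open scoped Pointwise
open Polynomial

namespace InertInv24

/-- A finite group of field automorphisms has a nonzero element with trivial stabiliser. -/
theorem exists_trivial_stabilizer {A : Type u} {κ : Type v} [CommRing A] [Field κ] [Algebra A κ]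
    (H : Subgroup (κ ≃ₐ[A] κ)) [Finite H] :
    ∃ θ : κ, θ ≠ 0 ∧ ∀ h ∈ H, h θ = θ → h = 1 := by
  obtain ⟨θ, hθ⟩ := Field.exists_primitive_element (FixedPoints.subfield H κ) κ
  have key : ∀ h ∈ H, h θ = θ → h = 1 := by
    intro h hh hfix
    have hadj : Algebra.adjoin (FixedPoints.subfield H κ) ({θ} : Set κ) = ⊤ := by
      rw [← IntermediateField.adjoin_simple_toSubalgebra_of_isAlgebraic
        (Algebra.IsAlgebraic.isAlgebraic θ), hθ, IntermediateField.top_toSubalgebra]
    have h1 : MulSemiringAction.toAlgHom (FixedPoints.subfield H κ) κ (⟨h, hh⟩ : H) = AlgHom.id _ κ :=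
      AlgHom.ext_of_adjoin_eq_top hadj fun x hx => by
        rw [Set.mem_singleton_iff.mp hx]; exact hfix
    exact AlgEquiv.ext fun x => DFunLike.congr_fun h1 x
  rcases eq_or_ne θ 0 with rfl | h0
  · exact ⟨1, one_ne_zero, fun h hh _ => key h hh (map_zero h)⟩
  · exact ⟨θ, h0, key⟩

variable {A : Type u} {B : Type v} {G : Type w} [CommRing A] [CommRing B] [Algebra A B]
  [Group G] [Finite G] [MulSemiringAction G B] [SMulCommClass G A B]

include A in
/-- An inertia invariant moved modulo `m` by every element outside the inertia group. -/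
theorem exists_inertia_generator (m : Ideal B) [m.IsMaximal] :
    ∃ β : B, (∀ σ ∈ m.inertia G, σ • β = β) ∧ ∀ g : G, g ∉ m.inertia G → g • β - β ∉ m := by
  classical
  let _ := Fintype.ofFinite G
  let _ : Field (B ⧸ m) := Ideal.Quotient.field m
  set p := m.under A
  set φ := Ideal.Quotient.stabilizerHom m p G with hφ
  have : Finite φ.range := Finite.of_surjective _ φ.rangeRestrict_surjective
  obtain ⟨θ, hθ0, hθ⟩ := exists_trivial_stabilizer (A := A ⧸ p) φ.range
  obtain ⟨t, rfl⟩ := Ideal.Quotient.mk_surjective θ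
  -- an element congruent to `θ` at `m` and to `0` at the other conjugates
  have : Finite (MulAction.orbit G m) := (Set.finite_range _).to_subtype
  let f : MulAction.orbit G m → Ideal B := fun i => i.1
  have hmax : ∀ i, (f i).IsMaximal := by
    rintro ⟨_, g, rfl⟩
    show (g • m).IsMaximal
    rw [Ideal.pointwise_smul_eq_comap]
    exact Ideal.comap_isMaximal_of_equiv (MulSemiringAction.toRingEquiv G B g⁻¹)
  have hco : Pairwise (Function.onFun IsCoprime f) := fun i j hij => by
    rw [Function.onFun, Ideal.isCoprime_iff_sup_eq]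
    exact (hmax i).coprime_of_ne (hmax j) fun h => hij (Subtype.ext h)
  obtain ⟨b₀, hb₀⟩ := Ideal.pi_quotient_surjective hco
    (fun i => Ideal.Quotient.mk (f i) (if f i = m then t else 0))
  have hb : ∀ g : G, Ideal.Quotient.mk (g • m) b₀ =
      Ideal.Quotient.mk (g • m) (if g • m = m then t else 0) := fun g => hb₀ ⟨g • m, g, rfl⟩
  have hbm : b₀ - t ∈ m := by
    have h := hb 1
    rw [if_pos (one_smul G m)] at h
    have h' := Ideal.Quotient.eq.mp h
    rwa [one_smul] at h'
  have hboth : ∀ g : G, g • m ≠ m → b₀ ∈ g • m := fun g hg => by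
    have h := hb g
    rw [if_neg hg, map_zero] at h
    exact Ideal.Quotient.eq_zero_iff_mem.mp h
  -- the invariant polynomial
  let I := m.inertia G
  let _ := Fintype.ofFinite I
  let P : B[X] := ∏ σ : I, (X - C ((σ : G) • b₀))
  set N := Fintype.card I with hN
  obtain ⟨q, _⟩ := ExpChar.exists (B ⧸ m)
  obtain ⟨i, N', hNeq, hN'⟩ : ∃ i N', N = q ^ i * N' ∧ (N' : B ⧸ m) ≠ 0 := by
    rcases ‹ExpChar (B ⧸ m) q› with _ | ⟨hq⟩
    · exact ⟨0, N, by simp, Nat.cast_ne_zero.mpr Fintype.card_ne_zero⟩
    · obtain ⟨i, N', hndvd, heq⟩ :=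
        Nat.exists_eq_pow_mul_and_not_dvd (n := N) Fintype.card_ne_zero q hq.ne_one
      exact ⟨i, N', heq, fun h => hndvd ((CharP.cast_eq_zero_iff (B ⧸ m) q N').mp h)⟩
  have hqpos : 0 < q ^ i := pow_pos (expChar_pos (B ⧸ m) q) i
  have hN'pos : 0 < N' := Nat.pos_of_ne_zero fun h => hN' (by rw [h, Nat.cast_zero])
  let d := q ^ i * (N' - 1)
  refine ⟨P.coeff d, fun σ hσ => ?_, fun g hg hmem => ?_⟩
  · have hP : P.map (MulSemiringAction.toRingHom G B σ) = P := by
      rw [Polynomial.map_prod]
      refine Fintype.prod_equiv (Equiv.mulLeft ⟨σ, hσ⟩) _ _ fun τ => ?_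
      rw [Polynomial.map_sub, map_X, map_C, Equiv.coe_mulLeft, Subgroup.coe_mul, mul_smul]
      rfl
    conv_rhs => rw [← hP]
    rw [coeff_map]
    rfl
  · -- modulo `m` the coefficient is `- N' θ ^ qⁱ`, modulo the other conjugates it is `0`
    have hPm : Ideal.Quotient.mk m (P.coeff d) = -((N' : B ⧸ m) * Ideal.Quotient.mk m t ^ q ^ i) := by
      rw [← coeff_map, Polynomial.map_prod]
      have h1 : ∀ σ : I, (X - C ((σ : G) • b₀)).map (Ideal.Quotient.mk m) =
          X - C (Ideal.Quotient.mk m t) := fun σ => by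
        have hσ : (σ : G) • b₀ - b₀ ∈ m := σ.2 b₀
        rw [Polynomial.map_sub, map_X, map_C, Ideal.Quotient.eq.mpr hσ, Ideal.Quotient.eq.mpr hbm]
      have h2 : (X - C (Ideal.Quotient.mk m t)) ^ q ^ i =
          expand (B ⧸ m) (q ^ i) (X + C (-(Ideal.Quotient.mk m t ^ q ^ i))) := by
        rw [sub_pow_expChar_pow, map_add, expand_X, expand_C, ← map_pow, map_neg, sub_eq_add_neg]
      rw [Finset.prod_congr rfl (fun σ _ => h1 σ), Finset.prod_const, Finset.card_univ, ← hN, hNeq,
        pow_mul, h2, ← map_pow, coeff_expand_mul' hqpos, coeff_X_add_C_pow,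
        show N' - (N' - 1) = 1 by omega, pow_one,
        Nat.choose_symm_of_eq_add (show N' = (N' - 1) + 1 by omega), Nat.choose_one_right]
      ring
    have hPg : g⁻¹ • m ≠ m → Ideal.Quotient.mk (g⁻¹ • m) (P.coeff d) = 0 := fun hne => by
      rw [← coeff_map, Polynomial.map_prod]
      have h1 : ∀ σ : I, (X - C ((σ : G) • b₀)).map (Ideal.Quotient.mk (g⁻¹ • m)) = X := fun σ => by
        have hσ : (σ : G) • m = m := Ideal.inertia_le_stabilizer (M := G) m σ.2
        have hne' : ((σ : G)⁻¹ * g⁻¹) • m ≠ m := fun h => hne (by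
          rw [mul_smul, inv_smul_eq_iff, hσ] at h; exact h)
        have hmem := Ideal.smul_mem_pointwise_smul (σ : G) _ _ (hboth _ hne')
        rw [← mul_smul, mul_inv_cancel_left] at hmem
        rw [Polynomial.map_sub, map_X, map_C, Ideal.Quotient.eq_zero_iff_mem.mpr hmem, map_zero,
          sub_zero]
      rw [Finset.prod_congr rfl (fun σ _ => h1 σ), Finset.prod_const, Finset.card_univ, ← hN,
        coeff_X_pow, if_neg]
      rw [hNeq]
      exact (Nat.mul_lt_mul_of_pos_left (by omega) hqpos).ne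
    by_cases hD : g • m = m
    · let gD : MulAction.stabilizer G m := ⟨g, hD⟩
      have h1 : φ gD (Ideal.Quotient.mk m (P.coeff d)) = Ideal.Quotient.mk m (P.coeff d) :=
        Ideal.Quotient.eq.mpr hmem
      have hN0 : (N' : B ⧸ m) ≠ 0 := hN'
      rw [hPm, map_neg, map_mul, map_natCast, map_pow, neg_inj, mul_right_inj' hN0] at h1
      have h2 : φ gD (Ideal.Quotient.mk m t) = Ideal.Quotient.mk m t :=
        iterateFrobenius_inj (B ⧸ m) q i (by rw [iterateFrobenius_def, iterateFrobenius_def, h1])
      have h3 : gD ∈ φ.ker := hθ _ ⟨gD, rfl⟩ h2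
      rw [hφ, Ideal.Quotient.ker_stabilizerHom] at h3
      exact hg h3
    · have hne : g⁻¹ • m ≠ m := fun h => hD (by
        conv_lhs => rw [← h, smul_inv_smul])
      have h1 := Ideal.smul_mem_pointwise_smul g _ _ (Ideal.Quotient.eq_zero_iff_mem.mp (hPg hne))
      rw [smul_inv_smul] at h1
      have h2 : P.coeff d ∈ m := by
        have := sub_mem h1 hmem
        rwa [sub_sub_cancel] at this
      rw [← Ideal.Quotient.eq_zero_iff_mem, hPm, neg_eq_zero] at h2
      exact mul_ne_zero hN' (pow_ne_zero _ hθ0) h2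

end InertInv24
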