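import Mathlib
import Groth.Agent.InertInv24.Generator

/-!
# The invariants of inertia are étale over a discrete valuation ring
-/

set_option autoImplicit false
universe u

open scoped Pointwise
open Polynomial
attribute [local instance] FractionRing.liftAlgebra FractionRing.isScalarTower_liftAlgebra

namespace InertInv24

theorem invariants_etale (A K L B : Type u) [CommRing A] [IsDomain A]
    [IsDiscreteValuationRing A] [Field K] [Field L] [Algebra A K] [IsFractionRing A K] [Algebra K L]
    [Algebra A L] [IsScalarTower A K L] [FiniteDimensional K L] [IsGalois K L]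
    [CommRing B] [Algebra A B] [Algebra B L] [IsScalarTower A B L] [IsIntegralClosure B A L]
    [MulSemiringAction (L ≃ₐ[K] L) B]
    (hact : ∀ (σ : L ≃ₐ[K] L) (b : B), algebraMap B L (σ • b) = σ (algebraMap B L b))
    (m : Ideal B) [m.IsMaximal] (T : IntermediateField K L)
    (hT : T = IntermediateField.fixedField (m.inertia (L ≃ₐ[K] L)))
    (B' : Type u) [CommRing B'] [Algebra A B'] [Algebra B' B] [IsScalarTower A B' B] [Algebra B' L]
    [IsScalarTower B' B L] [Algebra B' T] [IsScalarTower B' T L] [IsIntegralClosure B' A T] :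
    (∀ b : B, (∀ σ ∈ m.inertia (L ≃ₐ[K] L), σ • b = b) ↔ b ∈ Set.range (algebraMap B' B)) ∧
      Algebra.Etale A (Localization.AtPrime (m.comap (algebraMap B' B))) := by
  classical
  have hBinj : Function.Injective (algebraMap B L) := IsIntegralClosure.algebraMap_injective B A L
  have hB'T : Function.Injective (algebraMap B' T) := IsIntegralClosure.algebraMap_injective B' A T
  have hB'L : Function.Injective (algebraMap B' L) := by
    rw [IsScalarTower.algebraMap_eq B' T L]; exact (algebraMap T L).injective.comp hB'T
  have : IsScalarTower A B' L := IsScalarTower.of_algebraMap_eq fun a => by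
    rw [IsScalarTower.algebraMap_apply B' B L, ← IsScalarTower.algebraMap_apply A B' B,
      ← IsScalarTower.algebraMap_apply A B L]
  have : IsScalarTower A T L := IsScalarTower.of_algebraMap_eq fun a => by
    rw [IsScalarTower.algebraMap_apply A K L, IsScalarTower.algebraMap_apply A K T,
      ← IsScalarTower.algebraMap_apply K T L]
  have : IsScalarTower A B' T := IsScalarTower.of_algebraMap_eq fun a => by
    refine (algebraMap T L).injective ?_
    rw [← IsScalarTower.algebraMap_apply A T L, ← IsScalarTower.algebraMap_apply B' T L,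
      ← IsScalarTower.algebraMap_apply A B' L]
  have : SMulCommClass (L ≃ₐ[K] L) A B := ⟨fun σ a b => hBinj (by
    rw [Algebra.smul_def, Algebra.smul_def, hact, map_mul, map_mul, map_mul, hact,
      ← IsScalarTower.algebraMap_apply A B L, IsScalarTower.algebraMap_apply A K L, AlgEquiv.commutes])⟩
  have hmemT : ∀ b : B, (∀ σ ∈ m.inertia (L ≃ₐ[K] L), σ • b = b) ↔ algebraMap B L b ∈ T := fun b => by
    rw [hT, IntermediateField.mem_fixedField_iff]
    refine forall₂_congr fun σ _ => ?_
    rw [← hact, hBinj.eq_iff]
  have hinv : ∀ b : B, (∀ σ ∈ m.inertia (L ≃ₐ[K] L), σ • b = b) ↔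
      b ∈ Set.range (algebraMap B' B) := by
    refine fun b => (hmemT b).trans ⟨fun h => ?_, ?_⟩
    · have hint : IsIntegral A (⟨_, h⟩ : T) :=
        (isIntegral_algHom_iff (IsScalarTower.toAlgHom A T L) (algebraMap T L).injective).mp
          ((IsIntegralClosure.isIntegral A L b).map (IsScalarTower.toAlgHom A B L))
      obtain ⟨b', hb'⟩ := (IsIntegralClosure.isIntegral_iff (A := B')).mp hint
      refine ⟨b', hBinj ?_⟩
      rw [← IsScalarTower.algebraMap_apply B' B L, IsScalarTower.algebraMap_apply B' T L, hb']
      rfl
    · rintro ⟨b', rfl⟩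
      rw [← IsScalarTower.algebraMap_apply B' B L, IsScalarTower.algebraMap_apply B' T L]
      exact (algebraMap B' T b').2
  refine ⟨hinv, ?_⟩
  -- structure of `B'`
  have hfin : Module.Finite A B' := IsIntegralClosure.finite A K T B'
  have : IsDomain B' := Function.Injective.isDomain (algebraMap B' T) hB'T
  have : IsDomain B := Function.Injective.isDomain (algebraMap B L) hBinj
  have : IsDedekindDomain B' := IsIntegralClosure.isDedekindDomain A K T B'
  have : IsFractionRing B' T := IsIntegralClosure.isFractionRing_of_finite_extension A K T B'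
  have hAB' : Function.Injective (algebraMap A B') := fun x y h => by
    have h' := congrArg (algebraMap B' T) h
    rw [← IsScalarTower.algebraMap_apply, ← IsScalarTower.algebraMap_apply,
      IsScalarTower.algebraMap_apply A K T, IsScalarTower.algebraMap_apply A K T] at h'
    exact IsFractionRing.injective A K ((algebraMap K T).injective h')
  have : Module.IsTorsionFree A B' := by
    have : FaithfulSMul A B' := (faithfulSMul_iff_algebraMap_injective A B').mpr hAB'
    infer_instance
  have : Algebra.IsSeparable (FractionRing A) (FractionRing B') := by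
    refine Algebra.IsSeparable.of_equiv_equiv (FractionRing.algEquiv A K).symm.toRingEquiv
      (FractionRing.algEquiv B' T).symm.toRingEquiv ?_
    refine IsLocalization.ringHom_ext (nonZeroDivisors A) ?_
    ext
    simp only [RingHom.coe_comp, RingHom.coe_coe, AlgEquiv.coe_ringEquiv, Function.comp_apply,
      AlgEquiv.commutes, ← IsScalarTower.algebraMap_apply]
    rw [IsScalarTower.algebraMap_apply A B' T, AlgEquiv.commutes, ← IsScalarTower.algebraMap_apply]
  have : Algebra.IsIntegral B' B := by
    have : Algebra.IsIntegral A B := IsIntegralClosure.isIntegral_algebra A L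
    exact Algebra.IsIntegral.tower_top (R := A)
  set m' := m.comap (algebraMap B' B) with hm'
  have : m'.IsMaximal := Ideal.isMaximal_comap_of_isIntegral_of_isMaximal m
  -- a generator of `T` which is simple modulo `m`
  obtain ⟨β, hβI, hβ⟩ := exists_inertia_generator (A := A) (G := L ≃ₐ[K] L) m
  obtain ⟨β', rfl⟩ := (hinv β).mp hβI
  let β₁ := algebraMap B' B β'
  have htop : Algebra.adjoin K ({algebraMap B' T β'} : Set T) = ⊤ := by
    have h1 : IntermediateField.adjoin K ({algebraMap B L β₁} : Set L) = T := by
      refine le_antisymm (IntermediateField.adjoin_simple_le_iff.mpr ((hmemT β₁).mp hβI)) ?_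
      rw [← IsGalois.fixedField_fixingSubgroup (IntermediateField.adjoin K ({algebraMap B L β₁} : Set L)), hT]
      refine IntermediateField.fixedField_le fun σ hσ => ?_
      by_contra hσI
      refine hβ σ hσI ?_
      have h2 : σ (algebraMap B L β₁) = algebraMap B L β₁ :=
        (IntermediateField.mem_fixingSubgroup_iff _ σ).mp hσ _
          (IntermediateField.mem_adjoin_simple_self K _)
      rw [← hact] at h2
      rw [hBinj h2, sub_self]
      exact m.zero_mem
    rw [← IntermediateField.adjoin_simple_toSubalgebra_of_isAlgebraic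
      (Algebra.IsAlgebraic.isAlgebraic (algebraMap B' T β'))]
    have h3 : IntermediateField.adjoin K ({algebraMap B' T β'} : Set T) = ⊤ := by
      refine IntermediateField.lift_injective _ ?_
      rw [IntermediateField.lift_adjoin, IntermediateField.lift_top, Set.image_singleton]
      conv_rhs => rw [← h1]
      rw [show algebraMap B L β₁ = ((algebraMap B' T β' : T) : L) from
        (IsScalarTower.algebraMap_apply B' B L β').symm.trans (IsScalarTower.algebraMap_apply B' T L β')]
    rw [h3, IntermediateField.top_toSubalgebra]
  -- the polynomial with roots the conjugates of `β`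
  have hder : aeval β' (derivative (minpoly A β')) ∉ m' := by
    let O : Finset B := Finset.univ.image fun σ : L ≃ₐ[K] L => σ • β₁
    let h : B[X] := ∏ y ∈ O, (X - C y)
    have hcoef : ∀ i, ∃ a : A, algebraMap A B a = h.coeff i := by
      intro i
      have hfix : ∀ σ : L ≃ₐ[K] L, σ • h.coeff i = h.coeff i := fun σ => by
        have hh : h.map (MulSemiringAction.toRingHom _ B σ) = h := by
          rw [Polynomial.map_prod]
          refine Finset.prod_bij' (fun y _ => σ • y) (fun y _ => σ⁻¹ • y) ?_ ?_ ?_ ?_ ?_
          · intro y hy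
            obtain ⟨τ, -, rfl⟩ := Finset.mem_image.mp hy
            exact Finset.mem_image.mpr ⟨σ * τ, Finset.mem_univ _, mul_smul σ τ β₁⟩
          · intro y hy
            obtain ⟨τ, -, rfl⟩ := Finset.mem_image.mp hy
            exact Finset.mem_image.mpr ⟨σ⁻¹ * τ, Finset.mem_univ _, mul_smul σ⁻¹ τ β₁⟩
          · exact fun y _ => inv_smul_smul σ y
          · exact fun y _ => smul_inv_smul σ y
          · intro y _
            rw [Polynomial.map_sub, map_X, map_C]
            rfl
        conv_rhs => rw [← hh]
        rw [coeff_map]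
        rfl
      obtain ⟨x, hx⟩ : algebraMap B L (h.coeff i) ∈ Set.range (algebraMap K L) :=
        (IsGalois.mem_range_algebraMap_iff_fixed _).mpr fun σ => by rw [← hact, hfix]
      have hxint : IsIntegral A x := by
        refine (isIntegral_algHom_iff (IsScalarTower.toAlgHom A K L) (algebraMap K L).injective).mp ?_
        rw [IsScalarTower.coe_toAlgHom', hx]
        exact (IsIntegralClosure.isIntegral A L (h.coeff i)).map (IsScalarTower.toAlgHom A B L)
      obtain ⟨a, ha⟩ := IsIntegrallyClosed.isIntegral_iff.mp hxint
      refine ⟨a, hBinj ?_⟩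
      rw [← IsScalarTower.algebraMap_apply, IsScalarTower.algebraMap_apply A K L, ha, hx]
    obtain ⟨hA, hhA⟩ : ∃ hA : A[X], hA.map (algebraMap A B) = h :=
      Polynomial.mem_lifts h |>.mp ((Polynomial.lifts_iff_coeff_lifts h).mpr fun i => hcoef i)
    have hβmem : β₁ ∈ O := Finset.mem_image.mpr ⟨1, Finset.mem_univ _, one_smul _ _⟩
    have hroot : aeval β' hA = 0 := by
      apply hB'L
      rw [map_zero, IsScalarTower.algebraMap_apply B' B L]
      rw [← aeval_algebraMap_apply B β' hA, ← aeval_map_algebraMap B, hhA, coe_aeval_eq_eval,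
        eval_prod, Finset.prod_eq_zero hβmem (by rw [eval_sub, eval_X, eval_C, sub_self]), map_zero]
    obtain ⟨r, hr⟩ := minpoly.isIntegrallyClosed_dvd (Algebra.IsIntegral.isIntegral β') hroot
    intro hmem
    have h1 : aeval β' (derivative hA) ∈ m' := by
      rw [hr, derivative_mul, map_add, map_mul, map_mul, minpoly.aeval, zero_mul, add_zero]
      exact Ideal.mul_mem_right _ _ hmem
    rw [hm', Ideal.mem_comap, ← aeval_algebraMap_apply, ← aeval_map_algebraMap B,
      ← derivative_map, hhA, coe_aeval_eq_eval, Polynomial.derivative_prod_finset, eval_finsetSum,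
      Finset.sum_eq_single β₁ ?_ (fun h' => absurd hβmem h')] at h1
    · rw [derivative_sub, derivative_X, derivative_C, sub_zero, mul_one, eval_prod] at h1
      obtain ⟨y, hy, hy'⟩ := (Ideal.IsPrime.prod_mem_iff (p := m)).mp h1
      obtain ⟨hne, hyO⟩ := Finset.mem_erase.mp hy
      obtain ⟨τ, -, rfl⟩ := Finset.mem_image.mp hyO
      rw [eval_sub, eval_X, eval_C] at hy'
      refine hβ τ (fun hτI => hne ((hinv β₁).mpr ⟨β', rfl⟩ τ hτI)) ?_
      have := m.neg_mem hy'
      rwa [neg_sub] at this
    · intro y hy hne
      rw [eval_mul, eval_prod, Finset.prod_eq_zero (Finset.mem_erase.mpr ⟨hne.symm, hβmem⟩)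
        (by rw [eval_sub, eval_X, eval_C, sub_self]), zero_mul]
  have hur : Algebra.IsUnramifiedAt A m' := by
    rw [← not_dvd_differentIdeal_iff (A := A) (B := B')]
    intro hdvd
    exact hder (Ideal.dvd_iff_le.mp hdvd (aeval_derivative_mem_differentIdeal A K T β' htop))
  -- the localisation is a localisation at one element
  have hmax : ∀ P : Ideal B', P.IsMaximal → P.LiesOver (IsLocalRing.maximalIdeal A) := fun P hP => by
    have : Algebra.IsIntegral A B' := Algebra.IsIntegral.of_finite A B'
    exact ⟨(IsLocalRing.eq_maximalIdeal (Ideal.isMaximal_comap_of_isIntegral_of_isMaximal P)).symm⟩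
  have hfinmax : {P : Ideal B' | P.IsMaximal}.Finite :=
    (IsDedekindDomain.primesOver_finite (IsLocalRing.maximalIdeal A) B').subset
      fun P hP => ⟨hP.isPrime, hmax P hP⟩
  obtain ⟨s, hs, hsm⟩ : ∃ s, (∀ P : Ideal B', P.IsMaximal → P ≠ m' → s ∈ P) ∧ s ∉ m' := by
    let S := hfinmax.toFinset.erase m'
    have : ¬ (S.inf id ≤ m') := fun hle => by
      obtain ⟨P, hP, hle'⟩ := (Ideal.IsPrime.inf_le' ‹m'.IsMaximal›.isPrime).mp hle
      obtain ⟨hne, hP'⟩ := Finset.mem_erase.mp hP
      exact hne ((hfinmax.mem_toFinset.mp hP').eq_of_le ‹m'.IsMaximal›.ne_top hle')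
    obtain ⟨s, hs1, hs2⟩ := SetLike.not_le_iff_exists.mp this
    exact ⟨s, fun P hP hne => Finset.inf_le (f := id)
      (Finset.mem_erase.mpr ⟨hne, hfinmax.mem_toFinset.mpr hP⟩) hs1, hs2⟩
  have hdvd : ∀ x ∈ m'.primeCompl, ∃ y ∈ Submonoid.powers s, x ∣ y := by
    intro x hx
    have hx0 : x ≠ 0 := fun h => hx (h ▸ m'.zero_mem)
    have hrad : s ∈ (Ideal.span {x}).radical := by
      rw [Ideal.radical_eq_sInf, Submodule.mem_sInf]
      rintro P ⟨hxP, hP⟩
      have hPmax : Ideal.IsMaximal P := hP.isMaximal fun h => hx0 (by
        have := hxP (Ideal.mem_span_singleton_self x)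
        rwa [h, Ideal.mem_bot] at this)
      exact hs P hPmax fun h => hx (h ▸ hxP (Ideal.mem_span_singleton_self x))
    obtain ⟨k, hk⟩ := hrad
    exact ⟨s ^ k, ⟨k, rfl⟩, Ideal.mem_span_singleton.mp hk⟩
  have : IsLocalization.Away s (Localization.AtPrime m') := by
    have : IsLocalization m'.primeCompl (Localization.Away s) := by
      refine IsLocalization.of_le_of_exists_dvd (Submonoid.powers s) m'.primeCompl ?_ ?_
      · rintro _ ⟨k, rfl⟩
        exact m'.primeCompl.pow_mem hsm k
      · exact hdvd
    exact IsLocalization.isLocalization_of_algEquiv (Submonoid.powers s)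
      (IsLocalization.algEquiv m'.primeCompl (Localization.Away s) (Localization.AtPrime m'))
  have hfp : Algebra.FinitePresentation A B' :=
    Algebra.FinitePresentation.of_finiteType.mp inferInstance
  have : Algebra.FinitePresentation B' (Localization.AtPrime m') :=
    IsLocalization.Away.finitePresentation s
  have : Algebra.FinitePresentation A (Localization.AtPrime m') :=
    Algebra.FinitePresentation.trans A B' (Localization.AtPrime m')
  have : Module.Flat A (Localization.AtPrime m') := Module.Flat.trans A B' (Localization.AtPrime m')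
  have : Algebra.FormallyUnramified A (Localization.AtPrime m') := hur
  exact Algebra.Etale.of_formallyUnramified_of_flat

end InertInv24
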