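import Mathlib
import Groth.Agent.InertInv24.Generator
import Groth.Agent.WE91.LocalIntegral
import Groth.Agent.EtAlg23.HenselBasic

/-!
# Trivial inertia over a complete normal local ring
-/

set_option autoImplicit false
universe u

open scoped Pointwise
open Polynomial IsLocalRing

namespace InertInv24

variable {R S G : Type u} [CommRing R] [CommRing S] [IsDomain R] [IsDomain S] [IsLocalRing R]
  [Algebra R S] [Group G] [Finite G] [MulSemiringAction G S] [SMulCommClass G R S]

/-- `q(σ β) - q(β)` is a multiple of `σ β - β`. -/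
theorem sub_dvd_smul_aeval_sub (σ : G) (β : S) (q : R[X]) :
    σ • β - β ∣ σ • aeval β q - aeval β q := by
  have h : σ • aeval β q = aeval (σ • β) q :=
    (aeval_algHom_apply (MulSemiringAction.toAlgHom R S σ) β q).symm
  rw [h, ← eval_map_algebraMap, ← eval_map_algebraMap]
  exact sub_dvd_eval_sub _ _ _

theorem isLocalRing_galois [IsNoetherianRing R] [IsAdicComplete (maximalIdeal R) R]
    [IsGaloisGroup G R S] : IsLocalRing S := by
  have : HenselianLocalRing R := Groth.Agent.EtAlg23.henselianLocalRing_of_henselianRing R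
  have : Algebra.IsInvariant R S G := IsGaloisGroup.isInvariant
  have : Algebra.IsIntegral R S := Algebra.IsInvariant.isIntegral R S G
  exact Groth.Agent.WE91.isLocalRing_of_isIntegral_of_isDomain R S

variable [FaithfulSMul R S] [IsGaloisGroup G R S] [IsLocalRing S]

/-- Trivial inertia forces `S = R[β]` with `β` a root of a polynomial with separable reduction. -/
theorem unramified_of_inertia_eq_bot (n : Ideal S) [n.IsMaximal] [n.LiesOver (maximalIdeal R)]
    (hI : n.inertia G = ⊥) :
    (maximalIdeal R).map (algebraMap R S) = n ∧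
      Module.Finite (R ⧸ maximalIdeal R) (S ⧸ n) ∧
      Algebra.IsSeparable (R ⧸ maximalIdeal R) (S ⧸ n) := by
  classical
  let _ := Fintype.ofFinite G
  let _ : Field (S ⧸ n) := Ideal.Quotient.field n
  let _ : Field (R ⧸ maximalIdeal R) := Ideal.Quotient.field _
  have : Algebra.IsInvariant R S G := IsGaloisGroup.isInvariant
  have : Algebra.IsIntegral R S := Algebra.IsInvariant.isIntegral R S G
  have hn : n = maximalIdeal S := eq_maximalIdeal ‹n.IsMaximal›
  have hgn : ∀ g : G, g • n = n := fun g => by
    have : (g • n).IsMaximal := by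
      rw [Ideal.pointwise_smul_eq_comap]
      exact Ideal.comap_isMaximal_of_equiv (MulSemiringAction.toRingEquiv G S g⁻¹)
    rw [eq_maximalIdeal this, ← hn]
  obtain ⟨β, -, hβ⟩ := exists_inertia_generator (A := R) (G := G) n
  have hinj : Function.Injective fun g : G => Ideal.Quotient.mk n (g • β) := by
    intro g h hgh
    by_contra hne
    have hmem : (h⁻¹ * g) • β - β ∈ n := by
      have := Ideal.smul_mem_pointwise_smul h⁻¹ _ _ (Ideal.Quotient.eq.mp hgh)
      rwa [hgn, smul_sub, ← mul_smul, inv_smul_smul] at this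
    refine hβ (h⁻¹ * g) ?_ hmem
    rw [hI, Subgroup.mem_bot, inv_mul_eq_one]
    exact fun h' => hne h'.symm
  have hlifts : ∀ p : S[X], (∀ g : G, p.map (MulSemiringAction.toRingHom G S g) = p) →
      ∃ q : R[X], q.map (algebraMap R S) = p := fun p hp =>
    (Polynomial.mem_lifts p).mp ((Polynomial.lifts_iff_coeff_lifts p).mpr fun i =>
      Algebra.IsInvariant.isInvariant (A := R) (p.coeff i) fun g => by
        conv_rhs => rw [← hp g]
        rw [coeff_map]
        rfl)
  -- the characteristic polynomial
  let h : S[X] := ∏ g : G, (X - C (g • β))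
  obtain ⟨hR, hhR⟩ := hlifts h fun g => by
    rw [Polynomial.map_prod]
    refine Fintype.prod_equiv (Equiv.mulLeft g) _ _ fun τ => ?_
    rw [Polynomial.map_sub, map_X, map_C, Equiv.coe_mulLeft, mul_smul]
    rfl
  -- interpolation
  let u : S := ∏ τ ∈ Finset.univ.erase (1 : G), (β - τ • β)
  have hu : IsUnit u := by
    rw [← notMem_maximalIdeal, ← hn, Ideal.IsPrime.prod_mem_iff]
    rintro ⟨τ, hτ, hmem⟩
    exact (Finset.mem_erase.mp hτ).1 (hinj (Ideal.Quotient.eq.mpr (by
      simpa using n.neg_mem hmem) : Ideal.Quotient.mk n (τ • β) = Ideal.Quotient.mk n ((1 : G) • β)))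
  have key : ∀ s : S, ∃ q : R[X], q.natDegree < Fintype.card G ∧ aeval β q = s := by
    intro s
    let w := s * ↑hu.unit⁻¹
    let p : S[X] := ∑ g : G, C (g • w) * ∏ τ ∈ Finset.univ.erase g, (X - C (τ • β))
    obtain ⟨q, hq⟩ := hlifts p fun g => by
      simp only [p, Polynomial.map_sum, Polynomial.map_mul, map_C, Polynomial.map_prod,
        Polynomial.map_sub, map_X]
      refine Fintype.sum_equiv (Equiv.mulLeft g) _ _ fun a => ?_
      rw [Equiv.coe_mulLeft, mul_smul]
      congr 1
      refine Finset.prod_bij' (fun τ _ => g * τ) (fun τ _ => g⁻¹ * τ) ?_ ?_ ?_ ?_ ?_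
      · exact fun τ hτ => Finset.mem_erase.mpr
          ⟨fun e => (Finset.mem_erase.mp hτ).1 (mul_left_cancel e), Finset.mem_univ _⟩
      · exact fun τ hτ => Finset.mem_erase.mpr
          ⟨fun e => (Finset.mem_erase.mp hτ).1 (by show τ = g * a; rw [← e, mul_inv_cancel_left]), Finset.mem_univ _⟩
      · exact fun τ _ => inv_mul_cancel_left g τ
      · exact fun τ _ => mul_inv_cancel_left g τ
      · intro τ _
        rw [mul_smul]
        rfl
    refine ⟨q, ?_, ?_⟩
    · rw [← Polynomial.natDegree_map_eq_of_injective (FaithfulSMul.algebraMap_injective R S) q, hq]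
      refine lt_of_le_of_lt (natDegree_sum_le_of_forall_le _ _ (n := Fintype.card G - 1) fun g _ => ?_)
        (Nat.sub_lt Fintype.card_pos Nat.one_pos)
      refine natDegree_mul_le.trans ?_
      rw [natDegree_C, zero_add, natDegree_finset_prod_X_sub_C_eq_card,
        Finset.card_erase_of_mem (Finset.mem_univ g), Finset.card_univ]
    · rw [← eval_map_algebraMap, hq, eval_finsetSum, Finset.sum_eq_single (1 : G) ?_
        (fun h' => absurd (Finset.mem_univ _) h')]
      · rw [eval_mul, eval_C, eval_prod, one_smul]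
        simp only [eval_sub, eval_X, eval_C]
        show w * u = s
        rw [mul_assoc, hu.val_inv_mul, mul_one]
      · intro g _ hg
        rw [eval_mul, eval_prod, Finset.prod_eq_zero (Finset.mem_erase.mpr ⟨hg.symm, Finset.mem_univ _⟩)
          (by rw [one_smul, eval_sub, eval_X, eval_C, sub_self]), mul_zero]
  have hfin : Module.Finite R S := by
    have htop : Algebra.adjoin R ({β} : Set S) = ⊤ := eq_top_iff.mpr fun s _ => by
      obtain ⟨q, -, rfl⟩ := key s
      exact aeval_mem_adjoin_singleton R β
    exact Module.finite_def.mpr (by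
      rw [← Algebra.top_toSubmodule, ← htop]
      exact (Algebra.IsIntegral.isIntegral β).fg_adjoin_singleton)
  have hfinq : Module.Finite R (S ⧸ n) :=
    Module.Finite.of_surjective (Ideal.Quotient.mkₐ R n).toLinearMap Ideal.Quotient.mk_surjective
  have hev : ∀ q : R[X], ∀ g : G, g • aeval β q = aeval (g • β) q := fun q g =>
    (aeval_algHom_apply (MulSemiringAction.toAlgHom R S g) β q).symm
  refine ⟨le_antisymm (Ideal.map_le_iff_le_comap.mpr (le_of_eq (n.over_def (maximalIdeal R)))) ?_,
    Module.Finite.of_restrictScalars_finite R _ _, ?_⟩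
  · intro s hs
    obtain ⟨q, hqd, rfl⟩ := key s
    have hzero : (q.map (algebraMap R S)).map (Ideal.Quotient.mk n) = 0 := by
      refine eq_zero_of_natDegree_lt_card_of_eval_eq_zero _ hinj (fun g => ?_)
        (lt_of_le_of_lt (natDegree_map_le.trans natDegree_map_le) hqd)
      have hmem := Ideal.smul_mem_pointwise_smul g _ _ hs
      rw [hgn, hev] at hmem
      rw [eval_map_apply, eval_map_algebraMap]
      exact Ideal.Quotient.eq_zero_iff_mem.mpr hmem
    rw [aeval_eq_sum_range]
    refine Ideal.sum_mem _ fun i _ => ?_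
    rw [Algebra.smul_def]
    refine Ideal.mul_mem_right _ _ (Ideal.mem_map_of_mem _ ?_)
    have h1 := congrArg (fun p => coeff p i) hzero
    simp only [coeff_map, coeff_zero, Ideal.Quotient.eq_zero_iff_mem] at h1
    rwa [n.over_def (maximalIdeal R), Ideal.mem_comap]
  · refine ⟨fun x => mem_separableClosure_iff.mp ?_⟩
    obtain ⟨s, rfl⟩ := Ideal.Quotient.mk_surjective x
    obtain ⟨q, -, rfl⟩ := key s
    have hroot : aeval (Ideal.Quotient.mk n β) (hR.map (Ideal.Quotient.mk (maximalIdeal R))) = 0 := by
      rw [← Ideal.Quotient.algebraMap_eq (maximalIdeal R), aeval_map_algebraMap,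
        ← Ideal.Quotient.algebraMap_eq n, aeval_algebraMap_apply, ← eval_map_algebraMap, hhR,
        eval_prod, Finset.prod_eq_zero (Finset.mem_univ (1 : G))
          (by rw [one_smul, eval_sub, eval_X, eval_C, sub_self]), map_zero]
    have hsep : (hR.map (Ideal.Quotient.mk (maximalIdeal R))).Separable := by
      rw [← separable_map (algebraMap (R ⧸ maximalIdeal R) (S ⧸ n)), Polynomial.map_map,
        show (algebraMap (R ⧸ maximalIdeal R) (S ⧸ n)).comp (Ideal.Quotient.mk (maximalIdeal R)) =
          (Ideal.Quotient.mk n).comp (algebraMap R S) from RingHom.ext fun r => rfl,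
        ← Polynomial.map_map, hhR, Polynomial.map_prod]
      simp only [Polynomial.map_sub, map_X, map_C]
      exact separable_prod_X_sub_C_iff.mpr hinj
    have hsepβ : IsSeparable (R ⧸ maximalIdeal R) (Ideal.Quotient.mk n β) :=
      hsep.of_dvd (minpoly.dvd _ _ hroot)
    have hle : Algebra.adjoin (R ⧸ maximalIdeal R) ({Ideal.Quotient.mk n β} : Set (S ⧸ n)) ≤
        (separableClosure (R ⧸ maximalIdeal R) (S ⧸ n)).toSubalgebra :=
      Algebra.adjoin_le (Set.singleton_subset_iff.mpr (mem_separableClosure_iff.mpr hsepβ))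
    refine hle ?_
    rw [← Ideal.Quotient.algebraMap_eq n, ← aeval_algebraMap_apply,
      ← aeval_map_algebraMap (R ⧸ maximalIdeal R)]
    exact aeval_mem_adjoin_singleton _ _

/-- An unramified extension has trivial inertia. -/
theorem inertia_eq_bot_of_unramified [IsNoetherianRing R] [IsIntegrallyClosed R] [IsIntegrallyClosed S]
    (n : Ideal S) [n.IsMaximal] [n.LiesOver (maximalIdeal R)]
    (hmn : (maximalIdeal R).map (algebraMap R S) = n)
    [Module.Finite (R ⧸ maximalIdeal R) (S ⧸ n)]
    [Algebra.IsSeparable (R ⧸ maximalIdeal R) (S ⧸ n)] : n.inertia G = ⊥ := by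
  classical
  let _ : Field (S ⧸ n) := Ideal.Quotient.field n
  let _ : Field (R ⧸ maximalIdeal R) := Ideal.Quotient.field _
  have : Algebra.IsInvariant R S G := IsGaloisGroup.isInvariant
  have : Algebra.IsIntegral R S := Algebra.IsInvariant.isIntegral R S G
  have hn : n = maximalIdeal S := eq_maximalIdeal ‹n.IsMaximal›
  have : FaithfulSMul G S := IsGaloisGroup.faithful R
  let K := FractionRing R
  let L := FractionRing S
  let _ : Algebra K L := FractionRing.liftAlgebra R L
  have : IsScalarTower R K L := FractionRing.isScalarTower_liftAlgebra R L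
  let _ := IsFractionRing.mulSemiringAction G S L
  have : IsGaloisGroup G K L := IsGaloisGroup.to_isFractionRing G R S K L
  have : FiniteDimensional K L := IsGaloisGroup.finiteDimensional G K L
  have : IsGalois K L := IsGaloisGroup.isGalois G K L
  have : IsIntegralClosure S R L := IsIntegralClosure.of_isIntegrallyClosed S R L
  have hfin : Module.Finite R S := IsIntegralClosure.finite R K L S
  obtain ⟨θ, hθ⟩ := Field.exists_primitive_element (R ⧸ maximalIdeal R) (S ⧸ n)
  obtain ⟨β, rfl⟩ := Ideal.Quotient.mk_surjective θ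
  have hadj : Algebra.adjoin (R ⧸ maximalIdeal R) ({Ideal.Quotient.mk n β} : Set (S ⧸ n)) = ⊤ := by
    rw [← IntermediateField.adjoin_simple_toSubalgebra_of_isAlgebraic
      (Algebra.IsAlgebraic.isAlgebraic _), hθ, IntermediateField.top_toSubalgebra]
  -- `S = R[β]`
  have htop : (⊤ : Submodule R S) ≤ Subalgebra.toSubmodule (Algebra.adjoin R ({β} : Set S)) := by
    refine Submodule.le_of_le_smul_of_le_jacobson_bot Module.Finite.fg_top
      (maximalIdeal_le_jacobson ⊥) fun s _ => ?_
    have hs : Ideal.Quotient.mk n s ∈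
        Algebra.adjoin (R ⧸ maximalIdeal R) ({Ideal.Quotient.mk n β} : Set (S ⧸ n)) := by
      rw [hadj]; trivial
    rw [Algebra.adjoin_singleton_eq_range_aeval] at hs
    obtain ⟨qb, hqb⟩ := hs
    obtain ⟨q, rfl⟩ := Polynomial.map_surjective (Ideal.Quotient.mk (maximalIdeal R))
      Ideal.Quotient.mk_surjective qb
    have h1 : s - aeval β q ∈ n := by
      rw [← Ideal.Quotient.eq]
      refine hqb.symm.trans ?_
      rw [AlgHom.toRingHom_eq_coe, RingHom.coe_coe, ← Ideal.Quotient.algebraMap_eq (maximalIdeal R),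
        aeval_map_algebraMap, ← Ideal.Quotient.algebraMap_eq n, aeval_algebraMap_apply]
    rw [← sub_add_cancel s (aeval β q), add_comm]
    refine Submodule.add_mem_sup (aeval_mem_adjoin_singleton R β) ?_
    rw [← hmn] at h1
    rwa [Ideal.smul_top_eq_map, Submodule.restrictScalars_mem]
  have hall : ∀ s : S, ∃ q : R[X], aeval β q = s := fun s => by
    have := htop (Submodule.mem_top (x := s))
    rw [Subalgebra.mem_toSubmodule, Algebra.adjoin_singleton_eq_range_aeval] at this
    exact this
  -- a lift of the minimal polynomial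
  obtain ⟨f, hf⟩ := Polynomial.map_surjective (Ideal.Quotient.mk (maximalIdeal R))
    Ideal.Quotient.mk_surjective (minpoly (R ⧸ maximalIdeal R) (Ideal.Quotient.mk n β))
  have he : aeval β f ∈ n := by
    rw [← Ideal.Quotient.eq_zero_iff_mem, ← Ideal.Quotient.algebraMap_eq n, ← aeval_algebraMap_apply,
      ← aeval_map_algebraMap (R ⧸ maximalIdeal R), Ideal.Quotient.algebraMap_eq n,
      Ideal.Quotient.algebraMap_eq (maximalIdeal R), hf, minpoly.aeval]
  have hder : IsUnit (aeval β (derivative f)) := by
    rw [← notMem_maximalIdeal, ← hn, ← Ideal.Quotient.eq_zero_iff_mem,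
      ← Ideal.Quotient.algebraMap_eq n, ← aeval_algebraMap_apply,
      ← aeval_map_algebraMap (R ⧸ maximalIdeal R), Ideal.Quotient.algebraMap_eq n,
      Ideal.Quotient.algebraMap_eq (maximalIdeal R), ← derivative_map, hf]
    exact (Algebra.IsSeparable.isSeparable _ _).aeval_derivative_ne_zero (minpoly.aeval _ _)
  rw [eq_bot_iff]
  intro σ hσ
  rw [Subgroup.mem_bot]
  have hδ : σ • β - β ∈ n := hσ β
  have hsmall : ∀ s ∈ n, ∃ c ∈ n, σ • s - s = c * (σ • β - β) := by
    intro s hs
    rw [← hmn, Ideal.map, Ideal.span] at hs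
    refine Submodule.span_induction ?_ ?_ ?_ ?_ hs
    · rintro _ ⟨r, -, rfl⟩
      exact ⟨0, n.zero_mem, by rw [smul_algebraMap, sub_self, zero_mul]⟩
    · exact ⟨0, n.zero_mem, by rw [smul_zero, sub_self, zero_mul]⟩
    · rintro a b - - ⟨c, hc, h1⟩ ⟨d, hd, h2⟩
      exact ⟨c + d, n.add_mem hc hd, by rw [smul_add, add_mul, ← h1, ← h2]; ring⟩
    · rintro a x hx ⟨c, hc, h1⟩
      obtain ⟨q, rfl⟩ := hall a
      obtain ⟨e, he'⟩ := sub_dvd_smul_aeval_sub σ β q
      have hxn : x ∈ n := by rw [← hmn]; exact hx
      refine ⟨σ • aeval β q * c + e * x, n.add_mem (n.mul_mem_left _ hc) (n.mul_mem_left _ hxn), ?_⟩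
      rw [smul_eq_mul, smul_mul']
      linear_combination (σ • aeval β q) * h1 + x * he'
  obtain ⟨c, hc, hce⟩ := hsmall _ he
  have hσf : σ • aeval β f = aeval (σ • β) f :=
    (aeval_algHom_apply (MulSemiringAction.toAlgHom R S σ) β f).symm
  obtain ⟨z, hz⟩ := Polynomial.binomExpansion (f.map (algebraMap R S)) β (σ • β - β)
  rw [add_sub_cancel, derivative_map, eval_map_algebraMap, eval_map_algebraMap, eval_map_algebraMap,
    ← hσf] at hz
  have hzero : (σ • β - β) * (aeval β (derivative f) + z * (σ • β - β) - c) = 0 := by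
    linear_combination hce - hz
  have hne : aeval β (derivative f) + z * (σ • β - β) - c ≠ 0 := fun h0 => by
    refine (notMem_maximalIdeal.mpr hder) ?_
    rw [← hn, show aeval β (derivative f) = c - z * (σ • β - β) by linear_combination h0]
    exact n.sub_mem hc (n.mul_mem_left _ hδ)
  have hfix : σ • β = β := sub_eq_zero.mp ((mul_eq_zero.mp hzero).resolve_right hne)
  refine eq_of_smul_eq_smul (α := S) fun s => ?_
  obtain ⟨q, rfl⟩ := hall s
  rw [one_smul]
  exact ((aeval_algHom_apply (MulSemiringAction.toAlgHom R S σ) β q).symm).trans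
    (by rw [MulSemiringAction.toAlgHom_apply, hfix])

end InertInv24
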